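import Cfsg.Agent.H821.K547.Defs
import Cfsg.Agent.H935.Meet.CoTwo
import Cfsg.Agent.H345.K4.Co2
import Cfsg.Agent.Transfer.TateComplement
import Cfsg.Agent.Lib.FrattiniPGroup
import Cfsg.Agent.SporadicA.MathieuRecog
import Cfsg.Agent.H419.Row
import Cfsg.Agent.S2070

/-!
# S4547: the row of `Co2` (helper183)

`D3 Co2` : the Sylow 2-subgroup is the semidirect product of the group `2^10` of sign changes with a Sylow 2-subgroup of
`M22:2`, which is not cyclic.
-/

set_option autoImplicit false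

namespace Cfsg.Agent.H183.K547.Co2

open Cfsg Cfsg.Agent.H821.K547

universe u

/-! ### A split extension -/

/-- two homomorphisms together -/
def comb {P : Type*} [Group P] {n : ℕ} (f1 : P →* Multiplicative (ZMod 2))
    (f2 : P →* Multiplicative (Fin n → ZMod 2)) : P →* Multiplicative (Fin (n + 1) → ZMod 2) where
  toFun x := Multiplicative.ofAdd (Fin.cons (Multiplicative.toAdd (f1 x)) (Multiplicative.toAdd (f2 x)))
  map_one' := by
    rw [f1.map_one, f2.map_one]
    apply Multiplicative.toAdd.injective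
    funext i
    refine Fin.cases ?_ (fun j => ?_) i <;> rfl
  map_mul' x y := by
    rw [f1.map_mul, f2.map_mul]
    apply Multiplicative.toAdd.injective
    funext i
    refine Fin.cases ?_ (fun j => ?_) i <;> rfl

theorem comb_surjective {P : Type*} [Group P] {n : ℕ} {f1 : P →* Multiplicative (ZMod 2)}
    {f2 : P →* Multiplicative (Fin n → ZMod 2)} (h : ∀ a b, ∃ x, f1 x = a ∧ f2 x = b) :
    Function.Surjective (comb f1 f2) := by
  intro t
  obtain ⟨x, h1, h2⟩ := h (Multiplicative.ofAdd (Multiplicative.toAdd t 0))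
    (Multiplicative.ofAdd fun j => Multiplicative.toAdd t j.succ)
  refine ⟨x, ?_⟩
  show Multiplicative.ofAdd (Fin.cons (Multiplicative.toAdd (f1 x)) (Multiplicative.toAdd (f2 x))) = t
  rw [h1, h2]
  apply Multiplicative.toAdd.injective
  funext i
  refine Fin.cases ?_ (fun j => ?_) i <;> rfl

/-- the homomorphism with a given kernel of index two -/
theorem exists_of_index_two {R : Type*} [Group R] {M : Subgroup R} (hM : M.index = 2) :
    ∃ f : R →* Multiplicative (ZMod 2), ∀ x, f x = 1 ↔ x ∈ M := by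
  classical
  have h1 : Multiplicative.ofAdd (1 : ZMod 2) ≠ 1 := by decide
  have h2 : Multiplicative.ofAdd (1 : ZMod 2) * Multiplicative.ofAdd (1 : ZMod 2) = 1 := by decide
  refine ⟨{ toFun := fun x => if x ∈ M then 1 else Multiplicative.ofAdd 1
            map_one' := if_pos (one_mem M)
            map_mul' := fun x y => ?_ }, fun x => ?_⟩
  · have h := Subgroup.mul_mem_iff_of_index_two hM (a := x) (b := y)
    by_cases hx : x ∈ M <;> by_cases hy : y ∈ M <;> simp [h, hx, hy, h2]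
  · show (if x ∈ M then (1 : Multiplicative (ZMod 2)) else Multiplicative.ofAdd 1) = 1 ↔ x ∈ M
    by_cases hx : x ∈ M
    · simp [hx]
    · simp only [hx, if_false, iff_false]; exact h1

/-- a noncyclic 2-group maps onto `C2 × C2` -/
theorem rk_two {R : Type*} [Group R] [Finite R] (hR : IsPGroup 2 R) (hc : ¬ IsCyclic R) :
    ∃ f : R →* Multiplicative (Fin 2 → ZMod 2), Function.Surjective f := by
  have hidx : ∀ M : Subgroup R, IsCoatom M → M.index = 2 := fun M hM =>
    Cfsg.Agent.Lib.FrattiniPGroup.index_of_coatom hR hM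
  have hnt : (⊥ : Subgroup R) ≠ ⊤ := fun h => hc (by
    have : Subsingleton R := by
      refine ⟨fun a b => ?_⟩
      have h1 : ∀ c : R, c = 1 := fun c => Subgroup.mem_bot.1 (h ▸ Subgroup.mem_top c)
      rw [h1 a, h1 b]
    infer_instance)
  obtain ⟨M1, hM1, -⟩ := (eq_top_or_exists_le_coatom (⊥ : Subgroup R)).resolve_left hnt
  obtain ⟨x, hx⟩ : ∃ x, x ∉ M1 := by
    by_contra hcon
    push Not at hcon
    exact hM1.1 (eq_top_iff.2 fun y _ => hcon y)
  have hz : Subgroup.zpowers x ≠ ⊤ := fun h => hc ⟨x, fun y => by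
    have : y ∈ (⊤ : Subgroup R) := Subgroup.mem_top y
    rwa [← h] at this⟩
  obtain ⟨M2, hM2, hxM⟩ := (eq_top_or_exists_le_coatom _).resolve_left hz
  have hx2 : x ∈ M2 := hxM (Subgroup.mem_zpowers x)
  obtain ⟨y, hy1, hy2⟩ : ∃ y, y ∈ M1 ∧ y ∉ M2 := by
    by_contra hcon
    push Not at hcon
    have h1 : M1 ≤ M2 := hcon
    rcases hM1.le_iff.1 h1 with h2 | h2
    · exact hM2.1 h2
    · exact hx (h2 ▸ hx2)
  obtain ⟨f1, hf1⟩ := exists_of_index_two (hidx M1 hM1)
  obtain ⟨f2, hf2⟩ := exists_of_index_two (hidx M2 hM2)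
  have hval : ∀ a : Multiplicative (ZMod 2), a = 1 ∨ a = Multiplicative.ofAdd 1 := by decide
  have e1 : f1 x = Multiplicative.ofAdd 1 := (hval _).resolve_left fun h => hx ((hf1 x).1 h)
  have e2 : f2 x = 1 := (hf2 x).2 hx2
  have e3 : f1 y = 1 := (hf1 y).2 hy1
  have e4 : f2 y = Multiplicative.ofAdd 1 := (hval _).resolve_left fun h => hy2 ((hf2 y).1 h)
  refine ⟨comb f1 (comb f2 1), comb_surjective fun a b => ?_⟩
  have key : ∀ z, comb f2 (1 : R →* Multiplicative (Fin 0 → ZMod 2)) z = b ↔ f2 z = Multiplicative.ofAdd (Multiplicative.toAdd b 0) := by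
    intro z
    constructor
    · rintro rfl; rfl
    · intro h
      apply Multiplicative.toAdd.injective
      funext i
      have hi : i = 0 := Fin.ext (by omega)
      subst hi
      exact congrArg Multiplicative.toAdd h
  simp only [key]
  generalize Multiplicative.ofAdd (Multiplicative.toAdd b 0) = c
  rcases hval a with rfl | rfl <;> rcases hval c with rfl | rfl
  · exact ⟨1, map_one _, map_one _⟩
  · exact ⟨y, e3, e4⟩
  · exact ⟨x, e1, e2⟩
  · exact ⟨x * y, by rw [map_mul, e1, e3, mul_one], by rw [map_mul, e2, e4, one_mul]⟩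

theorem rk_three {P D : Type*} [Group P] [Finite P] [Group D] (hP : IsPGroup 2 P) (π : P →* D) (s : D →* P)
    (hs : ∀ d, π (s d) = d) (hV : π.ker ≠ ⊥) {n : ℕ} (g : D →* Multiplicative (Fin n → ZMod 2))
    (hg : Function.Surjective g) :
    ∃ f : P →* Multiplicative (Fin (n + 1) → ZMod 2), Function.Surjective f := by
  obtain ⟨θ, hθ, hinv⟩ := Cfsg.Agent.Transfer.TateComplement.exists_invariant_hom hP π.ker hV
  have hk : ∀ x : P, x * (s (π x))⁻¹ ∈ π.ker := fun x => by
    rw [MonoidHom.mem_ker, map_mul, map_inv, hs, mul_inv_cancel]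
  have hθ1 : ∀ (x : P) (v w : π.ker), (w : P) = x * v * x⁻¹ → θ w = θ v := by
    intro x v w h
    rw [← hinv x w]
    congr 1
    apply Subtype.ext
    show x⁻¹ * (w : P) * x = v
    rw [h]; group
  let f1 : P →* Multiplicative (ZMod 2) :=
    { toFun := fun x => θ ⟨x * (s (π x))⁻¹, hk x⟩
      map_one' := by
        have : (⟨(1 : P) * (s (π 1))⁻¹, hk 1⟩ : π.ker) = 1 := Subtype.ext (by simp)
        rw [this, map_one]
      map_mul' := fun x y => by
        have h1 : (⟨(x * y) * (s (π (x * y)))⁻¹, hk (x * y)⟩ : π.ker) = ⟨x * (s (π x))⁻¹, hk x⟩ *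
            ⟨s (π x) * (y * (s (π y))⁻¹) * (s (π x))⁻¹, (inferInstance : π.ker.Normal).conj_mem _ (hk y) _⟩ := by
          apply Subtype.ext
          show (x * y) * (s (π (x * y)))⁻¹ = x * (s (π x))⁻¹ * (s (π x) * (y * (s (π y))⁻¹) * (s (π x))⁻¹)
          rw [map_mul, map_mul]; group
        rw [h1, map_mul, hθ1 (s (π x)) ⟨y * (s (π y))⁻¹, hk y⟩ ⟨_, _⟩ rfl] }
  refine ⟨comb f1 (g.comp π), comb_surjective fun a b => ?_⟩
  obtain ⟨v, hv⟩ := hθ a
  obtain ⟨d, hd⟩ := hg b
  have hv1 : π (v : P) = 1 := v.2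
  have h2 : π ((v : P) * s d) = d := by rw [map_mul, hv1, hs, one_mul]
  refine ⟨(v : P) * s d, ?_, ?_⟩
  · rw [← hv]
    show θ ⟨_, _⟩ = θ v
    congr 1
    apply Subtype.ext
    show (v : P) * s d * (s (π ((v : P) * s d)))⁻¹ = v
    rw [h2]; group
  · show g (π ((v : P) * s d)) = b
    rw [h2, hd]

theorem d3_of_split {G : Type u} [Group G] [Finite G] {M : Subgroup G} (hM : ¬ 2 ∣ M.index) {D : Type*} [Group D]
    [Finite D] (π : M →* D) (s : D →* M) (hs : ∀ d, π (s d) = d) (hV : IsPGroup 2 π.ker) (hV1 : π.ker ≠ ⊥)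
    (hD : ∀ R : Sylow 2 D, ¬ IsCyclic R) : D3 G := by
  obtain ⟨R⟩ : Nonempty (Sylow 2 D) := inferInstance
  set P : Subgroup M := (R : Subgroup D).comap π with hPdef
  have hsurj : Function.Surjective π := fun d => ⟨s d, hs d⟩
  have hPi : ¬ 2 ∣ P.index := by
    rw [hPdef, Subgroup.index_comap_of_surjective _ hsurj]
    exact R.not_dvd_index
  have hP2 : IsPGroup 2 P := R.isPGroup'.comap_of_ker_isPGroup π hV
  obtain ⟨g, hg⟩ := rk_two R.isPGroup' (hD R)
  let π' : P →* R := (π.comp P.subtype).codRestrict (R : Subgroup D) fun x => x.2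
  let s' : R →* P := (s.comp (R : Subgroup D).subtype).codRestrict P fun x => by
    show π (s x) ∈ (R : Subgroup D)
    rw [hs]; exact x.2
  have hs' : ∀ d, π' (s' d) = d := fun d => Subtype.ext (hs d)
  have hV' : π'.ker ≠ ⊥ := by
    obtain ⟨v, hv, hv1⟩ := (Subgroup.bot_or_exists_ne_one π.ker).resolve_left hV1
    intro h
    have h1 : π v = 1 := hv
    have hvP : v ∈ P := by
      show π v ∈ (R : Subgroup D)
      rw [h1]; exact one_mem _
    have h2 : (⟨v, hvP⟩ : P) ∈ π'.ker := Subtype.ext h1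
    rw [h, Subgroup.mem_bot] at h2
    exact hv1 (congrArg Subtype.val h2)
  obtain ⟨f, hf⟩ := rk_three hP2 π' s' hs' hV' g hg
  have hP'i : ¬ 2 ∣ (P.map M.subtype).index := by
    rw [Subgroup.index_map_subtype, Nat.prime_two.dvd_mul]
    exact not_or.2 ⟨hPi, hM⟩
  have hP'p : IsPGroup 2 ↥(P.map M.subtype) := hP2.map _
  intro Q
  let P0 : Sylow 2 G := hP'p.toSylow hP'i
  have e1 : Q ≃* ↥(P.map M.subtype) := Sylow.equiv Q P0
  have e2 : P ≃* ↥(P.map M.subtype) := P.equivMapOfInjective _ M.subtype_injective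
  exact ⟨f.comp ((e1.trans e2.symm) : Q →* P), hf.comp (e1.trans e2.symm).surjective⟩

theorem d3_of_equiv {G : Type u} [Group G] [Finite G] {H : Type*} [Group H] [Finite H] (e : G ≃* H)
    (h : ∀ Q : Sylow 2 H, ∃ f : Q →* Multiplicative (Fin 3 → ZMod 2), Function.Surjective f) : D3 G := by
  intro Q
  obtain ⟨f, hf⟩ := h (Q.mapSurjective (f := (e : G →* H)) e.surjective)
  have hle : ∀ x : Q, e x ∈ Q.mapSurjective (f := (e : G →* H)) e.surjective := fun x => ⟨x, x.2, rfl⟩
  let e1 : Q →* ↥(Q.mapSurjective (f := (e : G →* H)) e.surjective) :=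
    ((e : G →* H).comp (Q : Subgroup G).subtype).codRestrict _ hle
  refine ⟨f.comp e1, hf.comp ?_⟩
  rintro ⟨_, ⟨x, hx, rfl⟩⟩
  exact ⟨⟨x, hx⟩, rfl⟩

/-! ### `Co2` -/

open Cfsg.Spor
open Cfsg.Agent.SporadicA.GolayBase Cfsg.Agent.SporadicA.GolayPerm
open Cfsg.Agent.SporadicStructure.M24El
open Cfsg.Agent.SporadicA.Co0Mono
open Cfsg.Agent.H935.Meet.CoTwo
open Cfsg.Agent.Co2Type.Mono (cd toCo0 toCo0_injective toCo0_smul exists_toCo0 mo mo2 toCo0_mo2 inE okP okP_iff inE_zero
  exists_el ok_of_okP)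

/-- an element of order `2 ^ k` of a group of permutations of 24 points has order at most 16 -/
theorem pow_sixteen {σ : Equiv.Perm GolayPt} {k : ℕ} (h : orderOf σ = 2 ^ k) : σ ^ 16 = 1 := by
  have hper : ∀ (n : ℕ) (ω : GolayPt), (σ ^ n) ω = ω ↔ Function.IsPeriodicPt σ n ω := by
    intro n ω
    rw [Function.IsPeriodicPt, Function.IsFixedPt, ← Equiv.Perm.coe_pow]
  ext1 ω
  rw [Equiv.Perm.one_apply, hper]
  have h1 : Function.IsPeriodicPt σ (2 ^ k) ω := by
    rw [← hper, ← h, pow_orderOf_eq_one, Equiv.Perm.one_apply]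
  obtain ⟨j, -, hj⟩ := (Nat.dvd_prime_pow Nat.prime_two).1 h1.minimalPeriod_dvd
  have h2 : Function.minimalPeriod σ ω ≤ 24 := by
    have h3 := Finset.card_le_card_of_injOn (s := Finset.range (Function.minimalPeriod σ ω))
      (t := (Finset.univ : Finset GolayPt)) (fun n => σ^[n] ω) (fun _ _ => Finset.mem_coe.2 (Finset.mem_univ _))
      (by
        intro a ha b hb hab
        rw [Finset.coe_range] at ha hb
        exact Function.iterate_injOn_Iio_minimalPeriod ha hb hab)
    rw [Finset.card_range] at h3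
    exact h3.trans (by decide)
  have h4 : j ≤ 4 := by
    by_contra hcon
    push Not at hcon
    have : 2 ^ 5 ≤ 2 ^ j := Nat.pow_le_pow_right (by norm_num) hcon
    omega
  have h5 : Function.minimalPeriod σ ω ∣ 16 := by
    rw [hj]; exact pow_dvd_pow 2 h4
  exact (Function.isPeriodicPt_iff_minimalPeriod_dvd).2 h5

theorem card_D22 : 2 ^ 7 ∣ Nat.card D22 := by
  have h1 : Spor.M22 ≤ D22 := by
    intro σ hσ
    obtain ⟨⟨h1, h2⟩, h3⟩ := hσ
    exact ⟨h1, mem_stab.2 (Or.inl ⟨h2, h3⟩)⟩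
  have h2 := Subgroup.card_dvd_of_le h1
  rw [Cfsg.Agent.SporadicA.MathieuRecog.card_M22] at h2
  exact (by norm_num : 2 ^ 7 ∣ 443520).trans h2

theorem not_cyclic (R : Sylow 2 D22) : ¬ IsCyclic R := by
  intro hc
  obtain ⟨x, hx⟩ := hc.exists_ofOrder_eq_natCard
  obtain ⟨k, hk⟩ := IsPGroup.iff_card.1 R.isPGroup'
  have h1 : orderOf ((x : D22) : Equiv.Perm GolayPt) = 2 ^ k := by
    rw [Subgroup.orderOf_coe, Subgroup.orderOf_coe, hx, hk]
  have h2 : 2 ^ 7 ∣ Nat.card R := by
    have h3 := R.card_eq_multiplicity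
    rw [h3]
    exact (Nat.Prime.pow_dvd_iff_dvd_ordProj Nat.prime_two Nat.card_pos.ne').1 card_D22
  have h3 : orderOf ((x : D22) : Equiv.Perm GolayPt) ∣ 16 := orderOf_dvd_of_pow_eq_one (pow_sixteen h1)
  rw [h1, ← hk] at h3
  have h4 := Nat.le_of_dvd (by norm_num) (h2.trans h3)
  norm_num at h4

theorem perm_smul_U {σ : M24} (h : (σ : Equiv.Perm GolayPt) ∈ D22) : permCo0 σ • (leechU : leechLattice) = leechU := by
  apply Subtype.ext
  funext i
  rw [Cfsg.Agent.MonsterU.CoFrameAct.perm_coe, leechU_coe, leechU_coe]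
  rcases mem_stab.1 h.2 with ⟨h1, h2⟩ | ⟨h1, h2⟩
  · have e1 : (σ : Equiv.Perm GolayPt).symm i = none ↔ i = none := by rw [Equiv.symm_apply_eq, h1]
    have e2 : (σ : Equiv.Perm GolayPt).symm i = some 0 ↔ i = some 0 := by rw [Equiv.symm_apply_eq, h2]
    simp only [e1, e2]
  · have e1 : (σ : Equiv.Perm GolayPt).symm i = none ↔ i = some 0 := by rw [Equiv.symm_apply_eq, h1]
    have e2 : (σ : Equiv.Perm GolayPt).symm i = some 0 ↔ i = none := by rw [Equiv.symm_apply_eq, h2]
    simp only [e1, e2, or_comm]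

/-- the permutations -/
theorem exists_sec : ∃ s : D22 →* H, ∀ d, pi (s d) = d := by
  have h1 : ∀ d : D22, ∃ g : H, toCo0 (g : Spor.Co2) = permCo0 ⟨d, d.2.1⟩ := by
    intro d
    obtain ⟨g, hg⟩ := exists_toCo0 (perm_smul_U (σ := ⟨d, d.2.1⟩) d.2)
    refine ⟨⟨g, ?_⟩, hg⟩
    rw [mem_H, hg]
    exact Cfsg.Agent.SporadicA.Co1Simple.perm_mem_N _
  choose s hs using h1
  refine ⟨{ toFun := s, map_one' := ?_, map_mul' := fun a b => ?_ }, fun d => ?_⟩
  · apply Subtype.ext
    apply toCo0_injective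
    rw [hs]
    exact (map_one permCo0).trans (map_one toCo0).symm
  · apply Subtype.ext
    apply toCo0_injective
    rw [hs]
    show _ = toCo0 ((s a : Spor.Co2) * (s b : Spor.Co2))
    rw [map_mul, hs, hs, ← map_mul]
    rfl
  · obtain ⟨P, hP, -, h⟩ := exists_el ⟨d, d.2.1⟩
    have hP' : okP P = true := by
      rw [okP_iff_mem hP, h]
      exact d.2
    have h2 : (s d : Spor.Co2) = mo2 0 P := by
      apply toCo0_injective
      rw [hs, toCo0_mo2 inE_zero hP', mo, h, Cfsg.Agent.Co2Type.Mono.cd_zero, signCo0_zero, one_mul]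
    apply Subtype.ext
    show (pi0 (s d) : Equiv.Perm GolayPt) = d
    rw [pi0_eq inE_zero hP' h2, h]

theorem pi_ker_two : IsPGroup 2 pi.ker := by
  intro y
  refine ⟨1, ?_⟩
  obtain ⟨c, hc⟩ := sign_of_pi y.2
  apply Subtype.ext
  apply Subtype.ext
  apply toCo0_injective
  show toCo0 (((y : H) : Spor.Co2) ^ 2 ^ 1) = toCo0 1
  rw [map_pow, hc, map_one, pow_one, pow_two, signCo0_mul_self]

theorem pi_ker_ne : pi.ker ≠ ⊥ := by
  have hm : inE 4202192 = true := by decide +kernel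
  have hP : okP idP = true := by decide +kernel
  intro h
  have h1 : (⟨mo2 4202192 idP, mo2_mem_H hm hP⟩ : H) ∈ pi.ker := by
    rw [MonoidHom.mem_ker]
    apply Subtype.ext
    show (pi0 _ : Equiv.Perm GolayPt) = 1
    rw [pi0_eq hm hP rfl, el_idP]
    rfl
  rw [h, Subgroup.mem_bot] at h1
  have h2 : Cfsg.Agent.Co2Type.FactsD.ge 4202192 = Cfsg.Agent.Co2Type.FactsD.ge 0 := by
    rw [Cfsg.Agent.Co2Type.FactsD.ge_zero]
    exact congrArg Subtype.val h1
  have h3 := Cfsg.Agent.Co2Type.FactsCo2.ge_inj hm inE_zero h2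
  norm_num at h3

instance : Finite Spor.Co2 := Nat.finite_of_card_ne_zero (by
  rw [Cfsg.Agent.Co2Type.CardCo2.card_co2]; norm_num)

theorem d3_model : D3 Spor.Co2 := by
  obtain ⟨s, hs⟩ := exists_sec
  exact d3_of_split odd_index_H pi s hs pi_ker_two pi_ker_ne not_cyclic

/-- **The row of `Co2`.** -/
theorem row {S : Type u} [Group S] (h : Spor.IsoCo2 S) : Row S := by
  obtain ⟨e⟩ := h
  have hfin : Finite S := Finite.of_equiv _ e.symm.toEquiv
  refine ⟨Or.inl ⟨Cfsg.Agent.H345.K4.Co2.good5_co2 ⟨e⟩, d3_of_equiv e d3_model⟩, fun τ _ hτ => absurd ?_ hτ⟩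
  have h1 := Cfsg.Agent.H419.Row.inner_of_out Cfsg.Agent.S2070.result ((e.symm.trans τ).trans e)
  obtain ⟨g, hg⟩ := h1
  refine ⟨e.symm g, fun x => ?_⟩
  have h2 := DFunLike.congr_fun hg (e x)
  change e (τ (e.symm (e x))) = g * e x * g⁻¹ at h2
  rw [e.symm_apply_apply] at h2
  have h3 := congrArg e.symm h2
  rw [e.symm_apply_apply, map_mul, map_mul, map_inv, e.symm_apply_apply] at h3
  exact h3

end Cfsg.Agent.H183.K547.Co2
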